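import Cfsg.Agent.H87.Ore.Tbl

/-!
Certificates for `SL_3(3)`.
-/

set_option autoImplicit false

namespace Cfsg.Agent.H87.Ore

/-- Certificates, part 0. -/
def w330 : List Wit := [
  .bad,
  .bad,
  .bad,
  .bad,
  .bad,
  .bad,
  .bad,
  .bad,
  .bad,
  .bad,
  .bad,
  .bad,
  .bad,
  .bad,
  .bad,
  .bad,
  .bad,
  .bad,
  .bad,
  .bad,
  .bad,
  .bad,
  .bad,
  .bad,
  .bad,
  .bad,
  .bad,
  .bad,
  .bad,
  .bad,
  .bad,
  .bad,
  .bad,
  .bad,
  .bad,
  .bad,
  .bad,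
  .bad,
  .bad,
  .bad,
  .bad,
  .bad,
  .bad,
  .bad,
  .bad,
  .pair 4767 2153 18396 907 4323 17542,
  .pair 9433 14953 1062 873 9570 5195,
  .pair 2482 1362 7380 821 16617 3876,
  .pair 2482 1388 7380 821 18555 2982,
  .pair 11454 15608 10062 1610 9900 1688,
  .pair 9433 15578 1062 873 5410 6458,
  .pair 9433 18702 1062 873 16224 3824,
  .pair 2482 1258 7380 821 987 2331,
  .pair 9024 18038 16371 881 16695 959,
  .bad,
  .bad,
  .bad,
  .bad,
  .bad,
  .bad,
  .bad,
  .bad,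
  .bad,
  .pair 15424 14719 7866 848 16383 5330]

/-- Certificates, part 1. -/
def w331 : List Wit := [
  .pair 15913 14458 1305 846 16140 3737,
  .pair 15424 13261 7866 848 8709 18889,
  .pair 9433 10734 1062 873 13944 5200,
  .pair 8953 8873 7623 875 11997 877,
  .pair 2482 1937 7380 821 10650 17866,
  .pair 15913 17478 1305 846 9654 5282,
  .pair 15424 16177 7866 848 10809 1393,
  .pair 2704 2138 13941 820 3690 1785,
  .bad,
  .bad,
  .bad,
  .bad,
  .bad,
  .bad,
  .bad,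
  .bad,
  .bad,
  .bad,
  .bad,
  .bad,
  .bad,
  .bad,
  .bad,
  .bad,
  .bad,
  .bad,
  .bad,
  .bad,
  .bad,
  .bad,
  .bad,
  .bad,
  .bad,
  .bad,
  .bad,
  .bad,
  .bad,
  .bad,
  .bad,
  .bad,
  .bad,
  .bad,
  .bad,
  .bad,
  .bad,
  .bad,
  .bad,
  .bad,
  .bad,
  .bad,
  .bad,
  .bad,
  .bad,
  .bad,
  .bad,
  .bad,
  .bad,
  .bad,
  .bad,
  .bad,
  .bad,
  .bad,
  .pair 15682 10168 14427 847 1392 3762,
  .pair 4903 6228 13950 1550 3771 2121]

/-- Certificates, part 2. -/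
def w332 : List Wit := [
  .pair 2482 3546 7380 821 3762 1392,
  .pair 8953 18302 7623 875 6516 1097,
  .pair 11632 13566 7875 1603 6033 18564,
  .pair 2704 3193 13941 820 1731 8793,
  .pair 11149 16835 14436 1604 6282 1826,
  .pair 4648 6352 7389 1549 1974 17541,
  .pair 9193 13818 14184 874 19398 18569,
  .bad,
  .bad,
  .bad,
  .bad,
  .bad,
  .bad,
  .bad,
  .bad,
  .bad,
  .pair 15501 16799 10053 853 16467 5223,
  .pair 15501 16070 10053 853 8622 1072,
  .pair 15501 15341 10053 853 12240 849,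
  .pair 2553 3952 9567 827 1665 2124,
  .pair 4648 5543 7389 1549 5367 2308,
  .pair 2304 3875 3006 825 3093 5277,
  .pair 16008 19567 3492 854 9987 4519,
  .pair 15501 18257 10053 853 10140 3765,
  .pair 2704 4328 13941 820 5601 4495,
  .bad,
  .bad,
  .bad,
  .bad,
  .bad,
  .bad,
  .bad,
  .bad,
  .bad,
  .bad,
  .bad,
  .bad,
  .bad,
  .bad,
  .bad,
  .bad,
  .bad,
  .bad,
  .bad,
  .bad,
  .bad,
  .bad,
  .bad,
  .bad,
  .bad,
  .bad,
  .bad,
  .bad,
  .bad,
  .bad,
  .bad,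
  .bad,
  .bad,
  .bad,
  .bad,
  .bad,
  .bad,
  .bad,
  .bad]

/-- Certificates, part 3. -/
def w333 : List Wit := [
  .bad,
  .bad,
  .bad,
  .bad,
  .bad,
  .bad,
  .bad,
  .bad,
  .bad,
  .bad,
  .bad,
  .bad,
  .bad,
  .bad,
  .bad,
  .pair 2793 5398 16128 826 16701 3763,
  .pair 4903 4047 13950 1550 5604 4607,
  .pair 2482 5739 7380 821 5370 2420,
  .pair 18103 8473 7632 1576 10737 1787,
  .pair 8953 14814 7623 875 4332 17851,
  .pair 9282 13406 3249 880 3918 10252,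
  .pair 9193 16684 14184 874 1320 3114,
  .pair 11217 13658 3501 1609 4161 18271,
  .pair 9433 15572 1062 873 18766 6454,
  .bad,
  .bad,
  .bad,
  .bad,
  .bad,
  .bad,
  .bad,
  .bad,
  .bad,
  .pair 2553 6142 9567 827 12009 5329,
  .pair 17866 15575 1071 1575 11737 6459,
  .pair 15913 17996 1305 846 18289 3543,
  .pair 8953 8218 7623 875 9894 5978,
  .pair 4648 3350 7389 1549 14514 3767,
  .pair 9433 7928 1062 873 11850 3820,
  .pair 2482 6094 7380 821 3408 4438,
  .pair 2704 6536 13941 820 3423 4577,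
  .pair 2704 6509 13941 820 7719 5225,
  .bad,
  .bad,
  .bad,
  .bad,
  .bad,
  .bad,
  .bad,
  .bad,
  .bad,
  .bad,
  .pair 4903 13279 13950 1550 14775 18284,
  .bad,
  .bad,
  .pair 9193 10168 14184 874 1392 3762,
  .bad,
  .bad,
  .pair 4746 13406 9576 1555 3918 10252,
  .bad,
  .bad,
  .pair 4903 13747 13950 1550 1896 10278,
  .bad,
  .bad]

/-- Certificates, part 4. -/
def w334 : List Wit := [
  .pair 8953 16612 7623 875 1140 3708,
  .bad,
  .bad,
  .pair 4746 13640 9576 1555 17049 18566,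
  .bad,
  .bad,
  .pair 4903 13513 13950 1550 15027 18878,
  .bad,
  .bad,
  .pair 9433 2995 1062 873 915 3816,
  .bad,
  .bad,
  .pair 4746 13172 9576 1555 16797 18255,
  .bad]

/-- All certificates. -/
def w33 : List Wit := [w330, w331, w332, w333, w334].flatten

set_option maxRecDepth 100000 in
theorem covered33 : covered 3 3 6643 7536 (redCases 3 3) w33 = true := by
  decide +kernel

end Cfsg.Agent.H87.Ore
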